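import Cfsg.Agent.H420.HT.D4Final
import Cfsg.Agent.H67.HT.D4One
import Cfsg.Agent.H726.HT.Ab

/-!
# S4933: the field `d4t` of `OddRows` (helper420)

`p = 3` by `H726.HT.d4t_cases`; `3 ∣ q - 1` = helper67 `row_d4_one`, `3 ∣ q + 1` = `row_d4_two`.
-/

set_option autoImplicit false

open Cfsg

namespace Cfsg.Agent.H420.HT.D4Field

open Cfsg.Agent.H316.HT (Row)
open Cfsg.Agent.H892.HT (Ab)

/-- **The field `d4t` of `OddRows`.** -/
theorem d4t (p : ℕ) [Fact p.Prime] (F : Type) [Field F] [Fintype F] (q : ℕ) [IsSimpleGroup (Lie.twistedD4 F q)]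
    (h2 : p ≠ 2) (hq : IsPrimePow q) (hF : Fintype.card F = q ^ 3) (hpq : ¬ p ∣ q) (h : ¬ Ab p (Lie.twistedD4 F q)) :
    Row p (Lie.twistedD4 F q) := by
  have h3 := Cfsg.Agent.H726.HT.d4t_cases h2 hF hpq h
  subst h3
  have h4 : q % 3 = 1 ∨ q % 3 = 2 := by omega
  rcases h4 with h4 | h4
  · exact Cfsg.Agent.H67.HT.D4One.row_d4_one hq hF (by omega)
  · exact D4Final.row_d4_two hq hF h4

end Cfsg.Agent.H420.HT.D4Field
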