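import Cfsg.Agent.H420.HT.D4Mk
import Cfsg.Agent.H115.HC.TwoDFour
import Cfsg.Agent.H362.HT.OverAny

/-!
# `³D₄(q)`: the two constituents of the character induced from the line parabolic (helper420, S4933)
-/

set_option autoImplicit false
set_option linter.unusedSectionVars false

open scoped ComplexConjugate
open Cfsg

namespace Cfsg.Agent.H420.HT.D4Pair

open CoxeterSystem Cfsg.Agent.ChevalleyStructure.CoxeterGeom Cfsg.Agent.Tits.Roots Cfsg.Agent.Tits.Core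
  Cfsg.Agent.Tits.RootComb Cfsg.Agent.Nodes.Comb Cfsg.Agent.Nodes.Reps Cfsg.Agent.Nodes.BNOf
  Cfsg.Agent.Nodes.BNOf.RGD Cfsg.Agent.Nodes.RGDChev Cfsg.Agent.Nodes.RGDFold
open Cfsg.Agent.Nodes.Bruhat Cfsg.Agent.Nodes.LeviDec Cfsg.Agent.H53.HC Cfsg.Agent.H115.HC.Two
open Cfsg.Lie Cfsg.Agent.ChevalleyStructure Cfsg.Agent.ChevalleyStructure.TwistedU
  Cfsg.Agent.ChevalleyStructure.TwistedFix Cfsg.Agent.ChevalleyStructure.TwistedFixOrbit
open Cfsg.Agent.Nodes.RGDFoldSL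
open Cfsg.Agent.BiChar.TwDFour
open Cfsg.Agent.H115.HC Cfsg.Agent.Characters Cfsg.Agent.OddOrderCharacters.Clifford

/-- the line parabolic subgroup of `³D₄(q)` -/
noncomputable abbrev PP {K : Type} [Field K] (φ : K →+* K) (q : ℕ) : Subgroup ↥(twistedD4 K q) :=
  PJ cs Nodes.RGDTwD4.isCartan (Nodes.RGDTwD4.T K q) (Nodes.RGDTwD4.X φ q) {0}

/-- its Levi subgroup -/
noncomputable abbrev LL {K : Type} [Field K] (φ : K →+* K) (q : ℕ) : Subgroup ↥(twistedD4 K q) :=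
  LJ cs Nodes.RGDTwD4.isCartan (Nodes.RGDTwD4.T K q) (Nodes.RGDTwD4.X φ q) {0}

/-- its unipotent radical -/
noncomputable abbrev VV {K : Type} [Field K] (φ : K →+* K) (q : ℕ) : Subgroup ↥(twistedD4 K q) :=
  VJ cs Nodes.RGDTwD4.isCartan (Nodes.RGDTwD4.X φ q) {0}

/-- the group generated by the long root groups of the Levi subgroup -/
noncomputable abbrev MM {K : Type} [Field K] (φ : K →+* K) (q : ℕ) : Subgroup ↥(twistedD4 K q) :=
  MJ cs Nodes.RGDTwD4.isCartan (Nodes.RGDTwD4.X φ q) {0}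

variable {K : Type} [Field K] [Fintype K] {q : ℕ} {φ : K →+* K}

/-- **The two constituents**, for a character of the line parabolic. -/
theorem pair (hK : Fintype.card K = q ^ 3) (hφ : ∀ x, φ x = x ^ q)
    (ρ : IrrCharacter ↥(PP φ q)) {Q : Type*} [Group Q] (f : ↥(PP φ q) →* Q)
    (hρ : ∀ x x' : ↥(PP φ q), f x = f x' → (ρ : ↥(PP φ q) → ℂ) x = (ρ : ↥(PP φ q) → ℂ) x')
    (hfV : ∀ v (hv : v ∈ VV φ q), f ⟨v, VJ_le_PJ hv⟩ = 1)
    (hfC : ∀ l (hl : l ∈ LL φ q), (∀ m ∈ MM φ q, l * m = m * l) → f ⟨l, LJ_le_PJ hl⟩ = 1)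
    (hc : ∀ [Fintype (Nodes.RGDTwD4.X φ q (sr 0))], ∑ u : Nodes.RGDTwD4.X φ q (sr 0),
      (ρ : ↥(PP φ q) → ℂ) ⟨u, LJ_le_PJ (X_le_LJ_single 0 u.2)⟩ = 0) :
    ∃ χ χ' : IrrCharacter ↥(twistedD4 K q), χ ≠ χ' ∧
      ∀ [Fintype ↥(twistedD4 K q)], indFun (PP φ q) (ρ : ↥(PP φ q) → ℂ) =
        (χ : ↥(twistedD4 K q) → ℂ) + (χ' : ↥(twistedD4 K q) → ℂ) := by
  classical
  obtain ⟨r, hch⟩ := CharP.exists K
  have : Fact r.Prime := ⟨CharP.char_is_prime K r⟩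
  have hle := D4Fixed.twisted_le_fix hK hφ
  have : Finite CoxeterMatrix.G₂.Group := Nodes.RGDChev.finite_W Cfsg.Agent.BiChar.GTwo.isType cs
  have Rg := Nodes.RGDTwD4.rgd (K := K) cs hK hφ r
  have iY : Fintype ↥(twistedD4 K q) := Fintype.ofFinite _
  obtain ⟨χ, χ', hne, h1⟩ := Cfsg.Agent.H420.HT.D4.exists_pair_cusp Rg (TwDFour.GG_top hφ hK) (by decide)
    TwDFour.r12.symm
    (TwDFour.hC (p := r) hφ hle hK (o := [21, 17, 20]) (by decide) TwDFour.cls12)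
    (TwDFour.hC (p := r) hφ hle hK (o := [2, 6, 3]) (by decide) TwDFour.cls12')
    ρ.2 (fun v hv => hρ _ _ (by rw [hfV v hv, map_one])) (fun z hz => hρ _ _ (by
      rw [map_one]
      obtain ⟨hzT, hz1, hz2⟩ := mem_CT.1 hz
      refine hfC z (T_le_LJ hzT) fun m hm => ?_
      have h2 : MJ cs Nodes.RGDTwD4.isCartan (Nodes.RGDTwD4.X φ q) {0} ≤ Subgroup.centralizer {z} := by
        rw [MJ_single]
        refine sup_le ?_ ?_
        · intro u hu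
          rw [Subgroup.mem_centralizer_singleton_iff]
          exact (hz1 u hu).symm
        · intro u hu
          rw [Subgroup.mem_centralizer_singleton_iff]
          exact (hz2 u hu).symm
      exact (Subgroup.mem_centralizer_singleton_iff.1 (h2 hm)).symm)) hc
  refine ⟨χ, χ', hne, ?_⟩
  intro i
  rw [Subsingleton.elim i iY]
  exact h1

/-- the degrees, and a constituent in the principal block -/
theorem pair_B0 (hq : IsPrimePow q) (hK : Fintype.card K = q ^ 3) (hφ : ∀ x, φ x = x ^ q)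
    {ℓ : ℕ} [Fact ℓ.Prime] {M : Ideal AlgInt} (hM : IsPModular ℓ M)
    (ρ : IrrCharacter ↥(PP φ q)) (hρB : ρ ∈ principalBlock M ↥(PP φ q)) {d : ℕ}
    (hρ1 : (ρ : ↥(PP φ q) → ℂ) 1 = d) {Q : Type*} [Group Q] (f : ↥(PP φ q) →* Q)
    (hρ : ∀ x x' : ↥(PP φ q), f x = f x' → (ρ : ↥(PP φ q) → ℂ) x = (ρ : ↥(PP φ q) → ℂ) x')
    (hfV : ∀ v (hv : v ∈ VV φ q), f ⟨v, VJ_le_PJ hv⟩ = 1)
    (hfC : ∀ l (hl : l ∈ LL φ q), (∀ m ∈ MM φ q, l * m = m * l) → f ⟨l, LJ_le_PJ hl⟩ = 1)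
    (hc : ∀ [Fintype (Nodes.RGDTwD4.X φ q (sr 0))], ∑ u : Nodes.RGDTwD4.X φ q (sr 0),
      (ρ : ↥(PP φ q) → ℂ) ⟨u, LJ_le_PJ (X_le_LJ_single 0 u.2)⟩ = 0) :
    ∃ χ χ' : IrrCharacter ↥(twistedD4 K q), χ ≠ χ' ∧ χ ∈ principalBlock M ↥(twistedD4 K q) ∧
      charDegree (χ : ↥(twistedD4 K q) → ℂ) + charDegree (χ' : ↥(twistedD4 K q) → ℂ) =
        ((q ^ 3 + 1) * (q ^ 8 + q ^ 4 + 1)) * d ∧
      ∀ [Fintype ↥(twistedD4 K q)], indFun (PP φ q) (ρ : ↥(PP φ q) → ℂ) =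
        (χ : ↥(twistedD4 K q) → ℂ) + (χ' : ↥(twistedD4 K q) → ℂ) := by
  classical
  obtain ⟨r, hch⟩ := CharP.exists K
  have : Fact r.Prime := ⟨CharP.char_is_prime K r⟩
  have hle := D4Fixed.twisted_le_fix hK hφ
  have iY : Fintype ↥(twistedD4 K q) := Fintype.ofFinite _
  have iP : Fintype ↥(PP φ q) := Fintype.ofFinite _
  obtain ⟨χ, χ', hne, h1⟩ := pair hK hφ ρ f hρ hfV hfC hc
  obtain ⟨ξ, hξ, -, hξne⟩ := Cfsg.Agent.H362.HT.exists_over_any hM (PP φ q) ρ hρB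
  have hdeg : charDegree (χ : ↥(twistedD4 K q) → ℂ) + charDegree (χ' : ↥(twistedD4 K q) → ℂ) =
      ((q ^ 3 + 1) * (q ^ 8 + q ^ 4 + 1)) * d := by
    have e0 := congrFun h1 1
    rw [Cfsg.Agent.H53.HC.indFun_one, hρ1, Pi.add_apply, TwDFour.index_eq' (p := r) hφ hle hq hK,
      Cfsg.Agent.Blocks.Basic.irr_one_eq_charDegree χ.2, Cfsg.Agent.Blocks.Basic.irr_one_eq_charDegree χ'.2] at e0
    exact_mod_cast e0.symm
  have hin : ξ = χ ∨ ξ = χ' := by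
    by_contra hcon
    push Not at hcon
    apply hξne
    have e1 : classInner (indFun (PP φ q) (ρ : ↥(PP φ q) → ℂ)) (ξ : ↥(twistedD4 K q) → ℂ) = 0 := by
      rw [h1, Core.classInner_add_left, Core.classInner_irr_ne χ.2 ξ.2 (fun h => hcon.1 (Subtype.ext h.symm)),
        Core.classInner_irr_ne χ'.2 ξ.2 (fun h => hcon.2 (Subtype.ext h.symm)), add_zero]
    rw [classInner_indFun _ _ _ (Core.isIrr_isClassFunction ξ.2)] at e1
    rw [← Core.classInner_conj_symm, e1, map_zero]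
  rcases hin with rfl | rfl
  · exact ⟨ξ, χ', hne, hξ, hdeg, h1⟩
  · refine ⟨ξ, χ, hne.symm, hξ, by rw [add_comm]; exact hdeg, ?_⟩
    intro i
    rw [h1, add_comm]

end Cfsg.Agent.H420.HT.D4Pair
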