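import Cfsg.Agent.H420.HT.DatD4
import Cfsg.Agent.H377.TD.Borel

/-!
# `³D₄(q)`, `3 ∣ q + 1`: the cuspidal character of the line parabolic (helper420, S4933)

`exists_rho` : from helper383's projection `f : P → PGL₂(q)` and helper681's character of `PGL₂(q)`.
-/

set_option autoImplicit false
set_option linter.unusedSectionVars false

open scoped ComplexConjugate
open Cfsg

namespace Cfsg.Agent.H420.HT.D4Rho

open CoxeterSystem Cfsg.Agent.ChevalleyStructure.CoxeterGeom Cfsg.Agent.Tits.Roots Cfsg.Agent.Tits.Core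
  Cfsg.Agent.Tits.RootComb Cfsg.Agent.Nodes.Comb Cfsg.Agent.Nodes.Reps Cfsg.Agent.Nodes.BNOf
  Cfsg.Agent.Nodes.BNOf.RGD Cfsg.Agent.Nodes.RGDChev Cfsg.Agent.Nodes.RGDFold
open Cfsg.Agent.Nodes.Bruhat Cfsg.Agent.Nodes.LeviDec Cfsg.Agent.H53.HC Cfsg.Agent.H115.HC.Two
open Cfsg.Lie Cfsg.Agent.ChevalleyStructure Cfsg.Agent.ChevalleyStructure.TwistedU
  Cfsg.Agent.ChevalleyStructure.TwistedFix Cfsg.Agent.ChevalleyStructure.TwistedFixOrbit
open Cfsg.Agent.Nodes.RGDFoldSL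
open Cfsg.Agent.ChevalleyStructure.SL2Hom (up lo mem_closure_SL2)
open Cfsg.Agent.BiChar.TwDFour
open Cfsg.Agent.H115.HC Cfsg.Agent.Characters Cfsg.Agent.H420.HT.D4Pair Cfsg.Agent.H420.HT.DatD4
open Cfsg.Agent.H377.TD (inf fix_iff fix_inf smul_inf exists_fB)
open Cfsg.Agent.H681.HT (exists_rho_B exists_equiv_quot mem_iff_of_index rho_comp)
open MulAction Matrix

/-- **Abstract part**: a group `X` over `PGL₂(F)` with the Borel subgroup. -/
theorem exists_abs {X : Type*} [Group X] [Finite X] {F : Type*} [Field F] [Finite F]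
    {f : X →* ProjGenLinGroup (Fin 2) F} (hf : Function.Surjective f) {B : Subgroup X}
    (hB : ∀ x, x ∈ B ↔ f x • inf F = inf F) (hq : Nat.card F % 3 = 2) :
    ∃ ρ : IrrCharacter X, (ρ : X → ℂ) 1 = ((Nat.card F - 1 : ℕ) : ℂ) ∧
      (∀ x x' : X, f x = f x' → (ρ : X → ℂ) x = (ρ : X → ℂ) x') ∧
      (∀ (a : F) (x : X), a ≠ 0 → (∃ g : GL (Fin 2) F, f x = ProjGenLinGroup.mk g ∧
        (g : Matrix (Fin 2) (Fin 2) F) = !![1, a; 0, 1]) → (ρ : X → ℂ) x = -1) ∧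
      (∀ [Fintype X], classInner (fun x => (fixedPointCharacter B x - 1) * (fixedPointCharacter B x - 1))
        (ρ : X → ℂ) ≠ 0) ∧
      (∀ M : Ideal AlgInt, IsPModular 3 M → ρ ∈ principalBlock M X) ∧
      (∀ τ : X ≃* X, (∀ x, f x = 1 ↔ f (τ x) = 1) →
        (∀ x, Nat.card (fixedBy (X ⧸ B) (τ x)) = Nat.card (fixedBy (X ⧸ B) x)) →
        ∀ x, (ρ : X → ℂ) (τ x) = (ρ : X → ℂ) x) := by
  classical
  obtain ⟨ρ, r1, r2, r3, r4, r5, -, r7, r8, r9, r10, r11⟩ := exists_rho_B hf hB hq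
  obtain ⟨e, he⟩ := exists_equiv_quot hf hB
  refine ⟨ρ, ?_, r2, ?_, ?_, r8, ?_⟩
  · rw [r1, Nat.cast_sub (by omega), Nat.cast_one]
  · rintro a x ha ⟨g, hg, hg'⟩
    refine r3 x ?_
    have h1 : fixedBy (X ⧸ B) x = {e.symm (inf F)} := by
      ext y
      rw [mem_fixedBy, Set.mem_singleton_iff, Equiv.eq_symm_apply, ← e.apply_eq_iff_eq (x := x • y), he, hg]
      constructor
      · intro h
        exact fix_iff hg' ha h
      · intro h
        rw [h]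
        exact fix_inf hg'
    rw [h1]
    exact Nat.card_unique
  · intro _
    rw [r7]
    exact one_ne_zero
  · intro τ h1 h2 x
    have hfinQ : Finite (X ⧸ B) := inferInstance
    refine rho_comp (f := f) (Y := X ⧸ B) (k := (Nat.card F + 1) / 3) (c := -2) (d := 1)
      r11 (fun y hy => r2 y 1 (by rw [hy, map_one])) r3 r4 (fun y hy => ?_) τ h1 h2 x
    split_ifs with h
    · exact r9 y hy h
    · exact r10 y hy h

variable {K : Type} [Field K] [Fintype K] {q : ℕ} {φ : K →+* K}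

/-- the Borel subgroup in the line parabolic -/
noncomputable abbrev BP (φ : K →+* K) (q : ℕ) : Subgroup ↥(PP φ q) :=
  (RGD.B cs Nodes.RGDTwD4.isCartan (Nodes.RGDTwD4.T K q) (Nodes.RGDTwD4.X φ q)).subgroupOf (PP φ q)

/-- **The character of the line parabolic.** -/
theorem exists_rho (hq : IsPrimePow q) (hK : Fintype.card K = q ^ 3) (hφ : ∀ x, φ x = x ^ q) (h3 : q % 3 = 2) :
    ∃ (f : ↥(PP φ q) →* Matrix.ProjGenLinGroup (Fin 2) (Fx φ ((Nodes.RGDTwNode.D4.rest 0).length + 1)))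
      (ρ : IrrCharacter ↥(PP φ q)),
      Function.Surjective f ∧
      (∀ x : ↥(PP φ q), (x : ↥(twistedD4 K q)) ∈ VV φ q → f x = 1) ∧
      (∀ x : ↥(PP φ q), (x : ↥(twistedD4 K q)) ∈ LL φ q →
        (f x = 1 ↔ ∀ m ∈ MM φ q, (x : ↥(twistedD4 K q)) * m = m * x)) ∧
      (∀ x x' : ↥(PP φ q), f x = f x' → (ρ : ↥(PP φ q) → ℂ) x = (ρ : ↥(PP φ q) → ℂ) x') ∧
      (ρ : ↥(PP φ q) → ℂ) 1 = ((q - 1 : ℕ) : ℂ) ∧
      (∀ [Fintype (Nodes.RGDTwD4.X φ q (sr 0))], ∑ u : Nodes.RGDTwD4.X φ q (sr 0),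
        (ρ : ↥(PP φ q) → ℂ) ⟨u, LJ_le_PJ (X_le_LJ_single 0 u.2)⟩ = 0) ∧
      (∀ [Fintype ↥(PP φ q)], classInner (fun x : ↥(PP φ q) => (fixedPointCharacter (BP φ q) x - 1) *
        (fixedPointCharacter (BP φ q) x - 1)) (ρ : ↥(PP φ q) → ℂ) ≠ 0) ∧
      (∀ M : Ideal AlgInt, IsPModular 3 M → ρ ∈ principalBlock M ↥(PP φ q)) ∧
      (∀ τ : ↥(PP φ q) ≃* ↥(PP φ q), (∀ x, f x = 1 ↔ f (τ x) = 1) →
        (∀ x, Nat.card (fixedBy (↥(PP φ q) ⧸ BP φ q) (τ x)) = Nat.card (fixedBy (↥(PP φ q) ⧸ BP φ q) x)) →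
        ∀ x, (ρ : ↥(PP φ q) → ℂ) (τ x) = (ρ : ↥(PP φ q) → ℂ) x) := by
  classical
  obtain ⟨r, hch⟩ := CharP.exists K
  have : Fact r.Prime := ⟨CharP.char_is_prime K r⟩
  have hle := D4Fixed.twisted_le_fix hK hφ
  have hcF := H377.TD.card_Fq hφ hq.one_lt hK
  obtain ⟨f, hfs, hfV, hfP, hfC, hB⟩ := exists_fB hφ hle hK r hq
  obtain ⟨ρ, r1, r2, r3, r4, r5, r6⟩ := exists_abs hfs hB (by rw [hcF]; exact h3)
  refine ⟨f, ρ, hfs, hfV, hfC, r2, ?_, ?_, r4, r5, r6⟩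
  · rw [r1, hcF]
  · intro _
    have h1 : ∀ u : Nodes.RGDTwD4.X φ q (sr 0), u ≠ 1 →
        (ρ : ↥(PP φ q) → ℂ) ⟨u, LJ_le_PJ (X_le_LJ_single 0 u.2)⟩ = -1 := by
      intro u hu
      obtain ⟨a, ha⟩ := (mem_X hφ hle 0 _).1 u.2
      refine r3 a _ ?_ ⟨_, hfP _ (up a) ha, rfl⟩
      rintro rfl
      apply hu
      apply Subtype.ext
      rw [ha]
      have h2 : (up (0 : Fx φ ((Nodes.RGDTwNode.D4.rest 0).length + 1)) :
          Matrix.SpecialLinearGroup (Fin 2) (Fx φ ((Nodes.RGDTwNode.D4.rest 0).length + 1))) = 1 := by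
        apply Subtype.ext
        change !![1, (0 : Fx φ ((Nodes.RGDTwNode.D4.rest 0).length + 1)); 0, 1] = 1
        ext i j
        fin_cases i <;> fin_cases j <;> rfl
      rw [h2, map_one]
      rfl
    rw [← Finset.add_sum_erase Finset.univ _ (Finset.mem_univ (1 : Nodes.RGDTwD4.X φ q (sr 0)))]
    rw [Finset.sum_congr rfl fun u hu => h1 u (Finset.ne_of_mem_erase hu), Finset.sum_const, Finset.card_erase_of_mem
      (Finset.mem_univ _), Finset.card_univ, ← Nat.card_eq_fintype_card, TwDFour.card_X0 hφ hle hq.one_lt hK]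
    have h2 : (⟨((1 : Nodes.RGDTwD4.X φ q (sr 0)) : ↥(twistedD4 K q)),
      LJ_le_PJ (X_le_LJ_single 0 (1 : Nodes.RGDTwD4.X φ q (sr 0)).2)⟩ : ↥(PP φ q)) = 1 := rfl
    rw [h2, r1, hcF, nsmul_eq_mul, Nat.cast_sub (by have := hq.one_lt; omega), Nat.cast_one]
    ring

end Cfsg.Agent.H420.HT.D4Rho
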